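import Mathlib.GroupTheory.GroupAction.Quotient
import Mathlib.GroupTheory.PGroup
import Mathlib.RingTheory.IntegralDomain
import Mathlib.Data.ZMod.Basic
import Mathlib.Algebra.BigOperators.Fin
import Mathlib.Tactic

/-!
# Elementary abelian 2-groups in `2^12 : M24`, the counting part (row Co1, helper897)

`B` a finite group of exponent 2 acting on a set of 24 points such that every element `≠ 1` fixes no point or exactly
eight points, `D` a binary code of minimum weight `≥ 8` such that every `b ∈ B` maps every word of `D` to itself or to its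
complement: `|D| |B| ≤ 2 ^ 12` (`card_mul_card_le`).
-/

set_option autoImplicit false

namespace Cfsg.Agent.Omega.TwoF.CoRank.Claim

open MulAction Finset

/-- few coordinates of small total weight -/
theorem exists_small {O : Type*} [Fintype O] [DecidableEq O] (s : O → ℕ) (hs : ∑ x, s x = 24) {m : ℕ}
    (hm : 3 * m < Fintype.card O) : ∃ M : Finset O, M.card = m ∧ ∑ x ∈ M, s x < 8 := by
  obtain ⟨M, hM, hmin⟩ := Finset.exists_min_image (Finset.univ.powersetCard m : Finset (Finset O)) (fun M => ∑ x ∈ M, s x)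
    (by rw [Finset.powersetCard_nonempty, Finset.card_univ]; omega)
  rw [Finset.mem_powersetCard_univ] at hM
  refine ⟨M, hM, ?_⟩
  by_contra h8
  rw [not_lt] at h8
  have hle : ∀ y, y ∉ M → ∀ x ∈ M, s x ≤ s y := by
    intro y hy x hx
    have hy' : y ∉ M.erase x := fun h => hy (Finset.mem_of_mem_erase h)
    have h1 := hmin (insert y (M.erase x)) (by
      rw [Finset.mem_powersetCard_univ, Finset.card_insert_of_notMem hy', Finset.card_erase_of_mem hx, hM]
      have : 0 < M.card := Finset.card_pos.2 ⟨x, hx⟩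
      omega)
    rw [Finset.sum_insert hy'] at h1
    have h2 := Finset.add_sum_erase M s hx
    omega
  have h1 : ∀ y, y ∉ M → 8 ≤ m * s y := by
    intro y hy
    calc 8 ≤ ∑ x ∈ M, s x := h8
      _ ≤ ∑ _x ∈ M, s y := Finset.sum_le_sum fun x hx => hle y hy x hx
      _ = m * s y := by rw [Finset.sum_const, hM, smul_eq_mul]
  have h2 : 8 * (Fintype.card O - m) ≤ m * ∑ y ∈ univ \ M, s y := by
    rw [Finset.mul_sum]
    calc 8 * (Fintype.card O - m) = ∑ _y ∈ univ \ M, 8 := by
          rw [Finset.sum_const, Finset.card_univ_sdiff, hM, smul_eq_mul, mul_comm]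
      _ ≤ _ := Finset.sum_le_sum fun y hy => h1 y (Finset.mem_sdiff.1 hy).2
  have h3 : ∑ y ∈ univ \ M, s y + ∑ x ∈ M, s x = 24 := by
    rw [← hs]
    exact Finset.sum_sdiff (Finset.subset_univ M)
  have h4 : m * 8 ≤ m * ∑ x ∈ M, s x := Nat.mul_le_mul_left _ h8
  have h5 : m * ∑ y ∈ univ \ M, s y + m * ∑ x ∈ M, s x = m * 24 := by rw [← Nat.mul_add, h3]
  have h6 : m ≤ Fintype.card O := by omega
  omega

variable {Ω B : Type*} [Fintype Ω] [Group B] [MulAction B Ω]

/-- Singleton bound for a code invariant under `B` -/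
theorem card_inv_le [Finite B] (hΩ : Fintype.card Ω = 24) (D : AddSubgroup (Ω → ZMod 2))
    (hinv : ∀ c ∈ D, ∀ (b : B) (i : Ω), c (b • i) = c i)
    (hmin : ∀ c ∈ D, c ≠ 0 → 8 ≤ (Finset.univ.filter fun i => c i ≠ 0).card) :
    Nat.card D ≤ 2 ^ (Nat.card (orbitRel.Quotient B Ω) - (Nat.card (orbitRel.Quotient B Ω) - 1) / 3) := by
  classical
  let O := orbitRel.Quotient B Ω
  have : Finite O := Quotient.finite _
  have := Fintype.ofFinite O
  let π : Ω → O := fun i => Quotient.mk _ i
  have hc : Nat.card (orbitRel.Quotient B Ω) = Fintype.card O := Nat.card_eq_fintype_card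
  rw [hc]
  set o := Fintype.card O with ho
  have hpos : 0 < o := by
    rw [ho, Fintype.card_pos_iff]
    have : Nonempty Ω := Fintype.card_pos_iff.1 (by rw [hΩ]; norm_num)
    exact ⟨π (Classical.arbitrary Ω)⟩
  obtain ⟨M, hM, hlt⟩ := exists_small (O := O) (fun x => (Finset.univ.filter fun i => π i = x).card) (by
    rw [← Finset.card_eq_sum_card_fiberwise (fun i _ => Finset.mem_coe.2 (Finset.mem_univ (π i))), Finset.card_univ, hΩ])
    (m := (o - 1) / 3) (by omega)
  -- restrict to the orbits outside `M`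
  let f : D → ({x : O // x ∉ M} → ZMod 2) := fun c x => (c : Ω → ZMod 2) (Quotient.out x.1)
  have hf : Function.Injective f := by
    intro c d hcd
    by_contra hne
    have hne' : (c : Ω → ZMod 2) - d ≠ 0 := fun h => hne (Subtype.ext (sub_eq_zero.1 h))
    have h1 := hmin _ (D.sub_mem c.2 d.2) hne'
    have h2 : (Finset.univ.filter fun i => ((c : Ω → ZMod 2) - d) i ≠ 0) ⊆ Finset.univ.filter fun i => π i ∈ M := by
      intro i hi
      rw [Finset.mem_filter] at hi ⊢
      refine ⟨Finset.mem_univ _, ?_⟩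
      by_contra hiM
      apply hi.2
      have h3 := congrFun hcd ⟨π i, hiM⟩
      have h4 : (orbitRel B Ω).r (Quotient.out (π i)) i := Quotient.mk_out (s := orbitRel B Ω) i
      obtain ⟨b, hb⟩ := h4
      have h5 : ∀ e ∈ D, e (Quotient.out (π i)) = e i := by
        intro e he
        rw [← hb]
        exact hinv e he b i
      have h3' : (c : Ω → ZMod 2) (Quotient.out (π i)) = (d : Ω → ZMod 2) (Quotient.out (π i)) := h3
      rw [h5 _ c.2, h5 _ d.2] at h3'
      rw [Pi.sub_apply, h3', sub_self]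
    have h3 : (Finset.univ.filter fun i => π i ∈ M).card = ∑ x ∈ M, (Finset.univ.filter fun i => π i = x).card := by
      rw [Finset.card_eq_sum_card_fiberwise (f := π) (t := M) (fun i hi => by
        have := (Finset.mem_filter.1 (Finset.mem_coe.1 hi)).2
        exact Finset.mem_coe.2 this)]
      refine Finset.sum_congr rfl fun x hx => ?_
      congr 1
      ext i
      simp only [Finset.mem_filter, Finset.mem_univ, true_and]
      constructor
      · rintro ⟨_, h⟩; exact h
      · intro h; exact ⟨by rw [h]; exact hx, h⟩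
    have h4 := Finset.card_le_card h2
    omega
  calc Nat.card D ≤ Nat.card ({x : O // x ∉ M} → ZMod 2) := Nat.card_le_card_of_injective f hf
    _ = 2 ^ (o - (o - 1) / 3) := by
      rw [Nat.card_fun, Nat.card_zmod]
      congr 1
      rw [Nat.card_eq_fintype_card, Fintype.card_subtype_compl]
      simp [hM, ho]

/-- the sign of an element of `ZMod 2` -/
def sg (a : ZMod 2) : ℤ := if a = 0 then 1 else -1

theorem sg_add : ∀ a b : ZMod 2, sg (a + b) = sg a * sg b := by decide

theorem sg_eq_one : ∀ a : ZMod 2, sg a = 1 → a = 0 := by decide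

theorem add_self (a : ZMod 2) : a + a = 0 := CharTwo.add_self_eq_zero a

omit [Fintype Ω] in
/-- the pairing of `D` and `B` -/
theorem duality [Finite Ω] [Finite B] [Nonempty Ω] (D : AddSubgroup (Ω → ZMod 2))
    (hpm : ∀ c ∈ D, ∀ b : B, (∀ i, c (b • i) = c i) ∨ (∀ i, c (b • i) = c i + 1)) :
    Nat.card D * Nat.card {b : B // ∀ c ∈ D, ∀ i, c (b • i) = c i} =
      Nat.card {c : D // ∀ (b : B) i, (c : Ω → ZMod 2) (b • i) = (c : Ω → ZMod 2) i} * Nat.card B := by
  classical
  have := Fintype.ofFinite B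
  have := Fintype.ofFinite D
  let i₀ : Ω := Classical.arbitrary Ω
  let p : (Ω → ZMod 2) → B → ZMod 2 := fun c b => c (b • i₀) + c i₀
  have hp : ∀ c ∈ D, ∀ b i, c (b • i) = c i + p c b := by
    intro c hc b i
    rcases hpm c hc b with h | h
    · show c (b • i) = c i + (c (b • i₀) + c i₀)
      rw [h, h, add_self, add_zero]
    · show c (b • i) = c i + (c (b • i₀) + c i₀)
      rw [h, h, add_comm (c i₀) 1, add_assoc, add_self, add_zero]
  have hpz : ∀ c ∈ D, ∀ b, p c b = 0 ↔ ∀ i, c (b • i) = c i := by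
    intro c hc b
    constructor
    · intro h i
      rw [hp c hc b i, h, add_zero]
    · intro h
      show c (b • i₀) + c i₀ = 0
      rw [h, add_self]
  -- characters
  let ψ : D → (B →* ℤ) := fun c =>
    { toFun := fun b => sg (p c b)
      map_one' := by
        show sg ((c : Ω → ZMod 2) ((1 : B) • i₀) + (c : Ω → ZMod 2) i₀) = 1
        rw [one_smul, add_self]; rfl
      map_mul' := fun b b' => by
        rw [← sg_add]
        congr 1
        show (c : Ω → ZMod 2) ((b * b') • i₀) + (c : Ω → ZMod 2) i₀ =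
          ((c : Ω → ZMod 2) (b • i₀) + (c : Ω → ZMod 2) i₀) + ((c : Ω → ZMod 2) (b' • i₀) + (c : Ω → ZMod 2) i₀)
        rw [mul_smul, hp c c.2 b (b' • i₀)]
        show (c : Ω → ZMod 2) (b' • i₀) + ((c : Ω → ZMod 2) (b • i₀) + (c : Ω → ZMod 2) i₀) + (c : Ω → ZMod 2) i₀ = _
        ring }
  let φ : B → (Multiplicative D →* ℤ) := fun b =>
    { toFun := fun c => sg (p (Multiplicative.toAdd c : D) b)
      map_one' := by
        show sg ((0 : Ω → ZMod 2) (b • i₀) + (0 : Ω → ZMod 2) i₀) = 1
        rfl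
      map_mul' := fun c c' => by
        rw [← sg_add]
        congr 1
        show ((Multiplicative.toAdd c : D) : Ω → ZMod 2) (b • i₀) + ((Multiplicative.toAdd c' : D) : Ω → ZMod 2) (b • i₀) +
          (((Multiplicative.toAdd c : D) : Ω → ZMod 2) i₀ + ((Multiplicative.toAdd c' : D) : Ω → ZMod 2) i₀) = _
        show _ = (((Multiplicative.toAdd c : D) : Ω → ZMod 2) (b • i₀) + ((Multiplicative.toAdd c : D) : Ω → ZMod 2) i₀) +
          (((Multiplicative.toAdd c' : D) : Ω → ZMod 2) (b • i₀) + ((Multiplicative.toAdd c' : D) : Ω → ZMod 2) i₀)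
        ring }
  have hψ1 : ∀ c : D, ψ c = 1 ↔ ∀ (b : B) i, (c : Ω → ZMod 2) (b • i) = (c : Ω → ZMod 2) i := by
    intro c
    constructor
    · intro h b
      rw [← hpz c c.2 b]
      exact sg_eq_one _ (DFunLike.congr_fun h b)
    · intro h
      ext b
      show sg (p c b) = 1
      rw [(hpz c c.2 b).2 (h b)]; rfl
  have hφ1 : ∀ b : B, φ b = 1 ↔ ∀ c ∈ D, ∀ i, c (b • i) = c i := by
    intro b
    constructor
    · intro h c hc
      rw [← hpz c hc b]
      exact sg_eq_one _ (DFunLike.congr_fun h (Multiplicative.ofAdd (⟨c, hc⟩ : D)))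
    · intro h
      ext c
      show sg (p (Multiplicative.toAdd c : D) b) = 1
      rw [(hpz _ (Multiplicative.toAdd c : D).2 b).2 (h _ (Multiplicative.toAdd c : D).2)]; rfl
  have h1 : ∑ c : D, ∑ b : B, sg (p c b) =
      (Nat.card {c : D // ∀ (b : B) i, (c : Ω → ZMod 2) (b • i) = (c : Ω → ZMod 2) i} : ℤ) * Nat.card B := by
    have h2 : ∀ c : D, ∑ b : B, sg (p c b) =
        if (∀ (b : B) i, (c : Ω → ZMod 2) (b • i) = (c : Ω → ZMod 2) i) then (Nat.card B : ℤ) else 0 := fun c => by
      have h5 : ∑ b : B, sg (p c b) = ((if ψ c = 1 then Fintype.card B else 0 : ℕ) : ℤ) := sum_hom_units (ψ c)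
      rw [h5, Nat.card_eq_fintype_card]
      simp only [hψ1 c]
      split_ifs <;> simp
    rw [Finset.sum_congr rfl fun c _ => h2 c, ← Finset.sum_filter, Finset.sum_const, nsmul_eq_mul,
      Nat.card_eq_fintype_card (α := {c : D // ∀ (b : B) i, (c : Ω → ZMod 2) (b • i) = (c : Ω → ZMod 2) i}),
      Fintype.card_subtype]
  have h3 : ∑ b : B, ∑ c : D, sg (p c b) =
      (Nat.card {b : B // ∀ c ∈ D, ∀ i, c (b • i) = c i} : ℤ) * Nat.card D := by
    have h2 : ∀ b : B, ∑ c : D, sg (p c b) =
        if (∀ c ∈ D, ∀ i, c (b • i) = c i) then (Nat.card D : ℤ) else 0 := fun b => by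
      have h6 : Fintype (Multiplicative D) := Multiplicative.fintype
      have h5 : ∑ c : Multiplicative D, φ b c = ((if φ b = 1 then Fintype.card (Multiplicative D) else 0 : ℕ) : ℤ) :=
        sum_hom_units (φ b)
      have h7 : ∑ c : D, sg (p c b) = ∑ c : Multiplicative D, φ b c :=
        Fintype.sum_equiv Multiplicative.ofAdd _ _ fun c => rfl
      have h8 : (Fintype.card (Multiplicative D) : ℤ) = Nat.card D := by
        rw [← Nat.card_eq_fintype_card]; rfl
      rw [h7, h5]
      simp only [hφ1 b]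
      split_ifs
      · exact h8
      · simp
    rw [Finset.sum_congr rfl fun b _ => h2 b, ← Finset.sum_filter, Finset.sum_const, nsmul_eq_mul,
      Nat.card_eq_fintype_card (α := {b : B // ∀ c ∈ D, ∀ i, c (b • i) = c i}), Fintype.card_subtype]
  rw [Finset.sum_comm, h3] at h1
  have h4 : Nat.card {b : B // ∀ c ∈ D, ∀ i, c (b • i) = c i} * Nat.card D =
      Nat.card {c : D // ∀ (b : B) i, (c : Ω → ZMod 2) (b • i) = (c : Ω → ZMod 2) i} * Nat.card B := by exact_mod_cast h1
  rw [← h4, mul_comm]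

/-- the double count of fixed points -/
theorem burnside [Finite B] [DecidableEq Ω] [Fintype B] :
    ∑ b : B, (Finset.univ.filter fun i : Ω => b • i = i).card = Nat.card (orbitRel.Quotient B Ω) * Nat.card B := by
  classical
  have : Finite (orbitRel.Quotient B Ω) := Quotient.finite _
  have := Fintype.ofFinite (orbitRel.Quotient B Ω)
  have h := MulAction.sum_card_fixedBy_eq_card_orbits_mul_card_group B Ω
  rw [Nat.card_eq_fintype_card, Nat.card_eq_fintype_card, ← h]
  refine Finset.sum_congr rfl fun b _ => ?_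
  rw [← Fintype.card_subtype]
  rfl

theorem card_stab_le [Finite B] [DecidableEq Ω] (hΩ : Fintype.card Ω = 24)
    (hfix : ∀ b : B, b ≠ 1 → ∀ i : Ω, b • i = i → (Finset.univ.filter fun j : Ω => b • j = j).card = 8) (i : Ω) :
    Nat.card (stabilizer B i) ≤ 16 := by
  classical
  have := Fintype.ofFinite (stabilizer B i)
  have h := burnside (Ω := Ω) (B := stabilizer B i)
  rw [← Finset.add_sum_erase univ _ (Finset.mem_univ (1 : stabilizer B i))] at h
  have h1 : (Finset.univ.filter fun j : Ω => (1 : stabilizer B i) • j = j).card = 24 := by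
    rw [Finset.filter_true_of_mem (fun j _ => one_smul _ j), Finset.card_univ, hΩ]
  have h2 : ∑ b ∈ Finset.univ.erase (1 : stabilizer B i), (Finset.univ.filter fun j : Ω => b • j = j).card =
      8 * (Nat.card (stabilizer B i) - 1) := by
    rw [Finset.sum_congr rfl (g := fun _ => 8), Finset.sum_const, Finset.card_erase_of_mem (Finset.mem_univ _),
      Finset.card_univ, smul_eq_mul, mul_comm, Nat.card_eq_fintype_card]
    intro b hb
    have hb1 : (b : B) ≠ 1 := fun h => (Finset.mem_erase.1 hb).1 (Subtype.ext h)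
    exact hfix b hb1 i b.2
  rw [h1, h2] at h
  have hn : 0 < Nat.card (stabilizer B i) := Nat.card_pos
  set n := Nat.card (stabilizer B i) with hn'
  have h3 : 16 + 8 * n = Nat.card (orbitRel.Quotient (stabilizer B i) Ω) * n := by omega
  have h4 : n ∣ 16 := by
    have h5 : n ∣ 16 + 8 * n := ⟨_, by rw [h3, mul_comm]⟩
    exact (Nat.dvd_add_left (Dvd.intro_left 8 rfl)).1 h5
  exact Nat.le_of_dvd (by norm_num) h4

/-- **main estimate** -/
theorem card_mul_card_le [Finite B] [DecidableEq Ω] (hΩ : Fintype.card Ω = 24) (h2 : ∀ b : B, b * b = 1)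
    (hfix : ∀ b : B, b ≠ 1 → ∀ i : Ω, b • i = i → (Finset.univ.filter fun j : Ω => b • j = j).card = 8)
    (D : AddSubgroup (Ω → ZMod 2))
    (hmin : ∀ c ∈ D, c ≠ 0 → 8 ≤ (Finset.univ.filter fun i => c i ≠ 0).card)
    (hpm : ∀ c ∈ D, ∀ b : B, (∀ i, c (b • i) = c i) ∨ (∀ i, c (b • i) = c i + 1))
    (hD : Nat.card D ≤ 2 ^ 12) : Nat.card D * Nat.card B ≤ 2 ^ 12 := by
  classical
  by_cases hB1 : Nat.card B = 1
  · rw [hB1, mul_one]; exact hD
  have := Fintype.ofFinite B
  have : Nonempty Ω := Fintype.card_pos_iff.1 (by rw [hΩ]; norm_num)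
  have hfact : Fact (Nat.Prime 2) := ⟨Nat.prime_two⟩
  have hP : IsPGroup 2 B := fun b => ⟨1, by rw [pow_one, pow_two]; exact h2 b⟩
  let Bs : Subgroup B :=
    { carrier := {b | ∀ c ∈ D, ∀ i, c (b • i) = c i}
      one_mem' := fun c _ i => by rw [one_smul]
      mul_mem' := fun {a b} ha hb c hc i => by rw [mul_smul, ha c hc, hb c hc]
      inv_mem' := fun {a} ha c hc i => by rw [← ha c hc (a⁻¹ • i), smul_inv_smul] }
  let D0 : AddSubgroup (Ω → ZMod 2) :=
    { carrier := {c | c ∈ D ∧ ∀ (b : B) i, c (b • i) = c i}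
      zero_mem' := ⟨D.zero_mem, fun _ _ => rfl⟩
      add_mem' := fun {x y} hx hy => ⟨D.add_mem hx.1 hy.1, fun b i => by
        rw [Pi.add_apply, Pi.add_apply, hx.2, hy.2]⟩
      neg_mem' := fun {x} hx => ⟨D.neg_mem hx.1, fun b i => by rw [Pi.neg_apply, Pi.neg_apply, hx.2]⟩ }
  have hdual : Nat.card D * Nat.card Bs = Nat.card D0 * Nat.card B := by
    have h := duality (B := B) D hpm
    have h3 : Nat.card D0 = Nat.card {c : D // ∀ (b : B) i, (c : Ω → ZMod 2) (b • i) = (c : Ω → ZMod 2) i} :=
      Nat.card_congr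
        { toFun := fun c => ⟨⟨c.1, c.2.1⟩, c.2.2⟩
          invFun := fun c => ⟨c.1.1, c.1.2, c.2⟩
          left_inv := fun _ => rfl
          right_inv := fun _ => rfl }
    rw [h3, ← h]
    rfl
  obtain ⟨b, hb⟩ := IsPGroup.iff_card.1 hP
  obtain ⟨t, ht⟩ := IsPGroup.iff_card.1 (hP.to_subgroup Bs)
  have hD0 := card_inv_le (B := B) hΩ D0 (fun c hc => hc.2) (fun c hc => hmin c hc.1)
  set o := Nat.card (orbitRel.Quotient B Ω) with ho
  have hbur := burnside (Ω := Ω) (B := B)
  rw [← ho] at hbur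
  have ho1 : 1 ≤ o := by
    have : Finite (orbitRel.Quotient B Ω) := Quotient.finite _
    have : Nonempty (orbitRel.Quotient B Ω) := ⟨Quotient.mk _ (Classical.arbitrary Ω)⟩
    exact Nat.card_pos
  have hbd1 : o * Nat.card B ≤ 384 := by
    rw [← hbur]
    have h3 : ∑ b : B, (Finset.univ.filter fun i : Ω => b • i = i).card = ∑ i : Ω, Nat.card (stabilizer B i) := by
      simp only [Finset.card_filter]
      rw [Finset.sum_comm]
      refine Finset.sum_congr rfl fun i _ => ?_
      rw [← Finset.card_filter, Nat.card_eq_fintype_card, ← Fintype.card_subtype]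
      rfl
    rw [h3]
    calc ∑ i : Ω, Nat.card (stabilizer B i) ≤ ∑ _i : Ω, 16 := Finset.sum_le_sum fun i _ => card_stab_le hΩ hfix i
      _ = 384 := by rw [Finset.sum_const, Finset.card_univ, hΩ, smul_eq_mul]
  have hbd2 : o * Nat.card B ≤ 16 + 8 * Nat.card Bs := by
    rw [← hbur, ← Finset.add_sum_erase univ _ (Finset.mem_univ (1 : B))]
    have h1 : (Finset.univ.filter fun j : Ω => (1 : B) • j = j).card = 24 := by
      rw [Finset.filter_true_of_mem (fun j _ => one_smul _ j), Finset.card_univ, hΩ]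
    rw [h1]
    have h3 : ∑ b ∈ Finset.univ.erase (1 : B), (Finset.univ.filter fun j : Ω => b • j = j).card ≤
        ∑ b ∈ Finset.univ.erase (1 : B), if b ∈ Bs then 8 else 0 := by
      refine Finset.sum_le_sum fun b hb => ?_
      have hb1 := (Finset.mem_erase.1 hb).1
      split_ifs with hbs
      · by_cases hex : ∃ i : Ω, b • i = i
        · obtain ⟨i, hi⟩ := hex
          exact (hfix b hb1 i hi).le
        · push Not at hex
          rw [Finset.filter_false_of_mem (fun i _ => hex i)]
          simp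
      · rw [Nat.le_zero, Finset.card_eq_zero, Finset.filter_eq_empty_iff]
        intro i _ hi
        apply hbs
        intro c hc
        rcases hpm c hc b with h | h
        · exact h
        · exfalso
          have h4 := h i
          rw [hi] at h4
          have h5 : (1 : ZMod 2) = 0 := left_eq_add.1 h4
          exact one_ne_zero h5
    rw [← Finset.sum_filter, Finset.sum_const, smul_eq_mul] at h3
    have h4 : (Finset.filter (fun b => b ∈ Bs) (Finset.univ.erase (1 : B))).card + 1 = Nat.card Bs := by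
      rw [Nat.card_eq_fintype_card, Fintype.card_subtype, Finset.filter_erase, Finset.card_erase_of_mem (by
        rw [Finset.mem_filter]; exact ⟨Finset.mem_univ _, Bs.one_mem⟩)]
      have : 0 < (Finset.filter (fun b => b ∈ Bs) (Finset.univ : Finset B)).card :=
        Finset.card_pos.2 ⟨1, by rw [Finset.mem_filter]; exact ⟨Finset.mem_univ _, Bs.one_mem⟩⟩
      omega
    omega
  rw [hb] at hbd1 hbd2 hdual hB1 ⊢
  rw [ht] at hbd2 hdual
  have htb : t ≤ b := by
    have h3 := Subgroup.card_subgroup_dvd_card Bs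
    rw [hb, ht] at h3
    exact (Nat.pow_dvd_pow_iff_le_right (by norm_num)).1 h3
  have hb0 : b ≠ 0 := by
    rintro rfl
    exact hB1 rfl
  have key : o - (o - 1) / 3 + b + b ≤ 12 + t := by
    have hb8 : b ≤ 8 := by
      by_contra hcon
      have h3 : 2 ^ 9 ≤ 2 ^ b := Nat.pow_le_pow_right (by norm_num) (by omega)
      have h4 : 1 * 2 ^ 9 ≤ o * 2 ^ b := Nat.mul_le_mul ho1 h3
      omega
    clear_value o
    clear hbur hdual hD0 ht hb ho
    interval_cases b <;> first | omega | (interval_cases t <;> omega)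
  have h5 : Nat.card D * 2 ^ b * 2 ^ t ≤ 2 ^ 12 * 2 ^ t := by
    calc Nat.card D * 2 ^ b * 2 ^ t = Nat.card D0 * 2 ^ b * 2 ^ b := by rw [← hdual]; ring
      _ ≤ 2 ^ (o - (o - 1) / 3) * 2 ^ b * 2 ^ b := Nat.mul_le_mul_right _ (Nat.mul_le_mul_right _ hD0)
      _ = 2 ^ (o - (o - 1) / 3 + b + b) := by rw [pow_add, pow_add]
      _ ≤ 2 ^ (12 + t) := Nat.pow_le_pow_right (by norm_num) key
      _ = 2 ^ 12 * 2 ^ t := by rw [pow_add]
  exact Nat.le_of_mul_le_mul_right h5 (by positivity)

end Cfsg.Agent.Omega.TwoF.CoRank.Claim
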